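import Cfsg.Agent.Lib.TC.Main
import Cfsg.Prelude.Def_Spor_Fi24

/-! Columns and relators of the presentation of Fi24 for coset enumeration. -/

namespace Cfsg.Agent.Lib.TC.G.Fi24

open Cfsg.Spor Cfsg.Agent.Lib.TC.Pres Cfsg.Agent.Lib.TC.Main Cfsg.Agent.Lib.TC.Enc

/-- The column of a generator. -/
def colF : Cfsg.Spor.Fi24.Gen → Nat
  | .l => 0
  | .k => 1
  | .a => 2
  | .b => 3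
  | .c => 4
  | .d => 5
  | .e => 6
  | .f => 7
  | .g => 8
  | .j => 9
  | .h => 10
  | .i => 11

/-- The generator of a column. -/
def genF (c : Nat) : Cfsg.Spor.Fi24.Gen :=
  [Cfsg.Spor.Fi24.Gen.l,Cfsg.Spor.Fi24.Gen.k,Cfsg.Spor.Fi24.Gen.a,Cfsg.Spor.Fi24.Gen.b,Cfsg.Spor.Fi24.Gen.c,Cfsg.Spor.Fi24.Gen.d,Cfsg.Spor.Fi24.Gen.e,Cfsg.Spor.Fi24.Gen.f,Cfsg.Spor.Fi24.Gen.g,Cfsg.Spor.Fi24.Gen.j,Cfsg.Spor.Fi24.Gen.h,Cfsg.Spor.Fi24.Gen.i].getD c Cfsg.Spor.Fi24.Gen.l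

/-- The sign of a column. -/
def sgnF (c : Nat) : Bool :=
  [true,true,true,true,true,true,true,true,true,true,true,true].getD c true

/-- The inverse column. -/
def invF (c : Nat) : Nat :=
  [0,1,2,3,4,5,6,7,8,9,10,11].getD c 0

/-- The columns. -/
def K : Cols Cfsg.Spor.Fi24.Gen := ⟨12, colF, genF, sgnF, invF⟩

/-- The relators. -/
abbrev Rel : Set (FreeGroup Cfsg.Spor.Fi24.Gen) :=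
  coxRelators Cfsg.Spor.Fi24.edges ∪ {r | r ∈ Cfsg.Spor.Fi24.extra}

/-- The words of the further relators. -/
def extraW : List (List (Cfsg.Spor.Fi24.Gen × Bool)) :=
  [[(Cfsg.Spor.Fi24.Gen.l,true),(Cfsg.Spor.Fi24.Gen.h,false),(Cfsg.Spor.Fi24.Gen.f,false),(Cfsg.Spor.Fi24.Gen.e,false),(Cfsg.Spor.Fi24.Gen.d,false),(Cfsg.Spor.Fi24.Gen.c,false),(Cfsg.Spor.Fi24.Gen.b,false),(Cfsg.Spor.Fi24.Gen.a,false),(Cfsg.Spor.Fi24.Gen.h,false),(Cfsg.Spor.Fi24.Gen.f,false),(Cfsg.Spor.Fi24.Gen.e,false),(Cfsg.Spor.Fi24.Gen.d,false),(Cfsg.Spor.Fi24.Gen.c,false),(Cfsg.Spor.Fi24.Gen.b,false),(Cfsg.Spor.Fi24.Gen.a,false),(Cfsg.Spor.Fi24.Gen.h,false),(Cfsg.Spor.Fi24.Gen.f,false),(Cfsg.Spor.Fi24.Gen.e,false),(Cfsg.Spor.Fi24.Gen.d,false),(Cfsg.Spor.Fi24.Gen.c,false),(Cfsg.S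por.Fi24.Gen.b,false),(Cfsg.Spor.Fi24.Gen.a,false),(Cfsg.Spor.Fi24.Gen.h,false),(Cfsg.Spor.Fi24.Gen.f,false),(Cfsg.Spor.Fi24.Gen.e,false),(Cfsg.Spor.Fi24.Gen.d,false),(Cfsg.Spor.Fi24.Gen.c,false),(Cfsg.Spor.Fi24.Gen.b,false),(Cfsg.Spor.Fi24.Gen.a,false),(Cfsg.Spor.Fi24.Gen.h,false),(Cfsg.Spor.Fi24.Gen.f,false),(Cfsg.Spor.Fi24.Gen.e,false),(Cfsg.Spor.Fi24.Gen.d,false),(Cfsg.Spor.Fi24.Gen.c,false),(Cfsg.Spor.Fi24.Gen.b,false),(Cfsg.Spor.Fi24.Gen.a,false),(Cfsg.Spor.Fi24.Gen.h,false),(Cfsg.Spor.Fi24.Gen.f,false),(Cfsg.Spor.Fi24.Gen.e,false),(Cfsg.Spor.Fi24.Gen.d,false),(Cfsg.Spor.Fi24.Gen.c,false),(Cfsg.Spor.Fi24.Gen.b,false),(Cfsg.Spor.Fi24.Gen.a,false),(Cfsg.Spor.Fi24.Gen.h,false),(Cfsg.Spor.Fi24.Gen.f,false),(Cfsg.Spor.Fi24.Gen.e,false),(Cfsg.Spor.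Fi24.Gen.d,false),(Cfsg.Spor.Fi24.Gen.c,false),(Cfsg.Spor.Fi24.Gen.b,false),(Cfsg.Spor.Fi24.Gen.a,false),(Cfsg.Spor.Fi24.Gen.h,false),(Cfsg.Spor.Fi24.Gen.f,false),(Cfsg.Spor.Fi24.Gen.e,false),(Cfsg.Spor.Fi24.Gen.d,false),(Cfsg.Spor.Fi24.Gen.c,false),(Cfsg.Spor.Fi24.Gen.b,false),(Cfsg.Spor.Fi24.Gen.a,false),(Cfsg.Spor.Fi24.Gen.h,false),(Cfsg.Spor.Fi24.Gen.f,false),(Cfsg.Spor.Fi24.Gen.e,false),(Cfsg.Spor.Fi24.Gen.d,false),(Cfsg.Spor.Fi24.Gen.c,false),(Cfsg.Spor.Fi24.Gen.b,false),(Cfsg.Spor.Fi24.Gen.a,false)],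
   [(Cfsg.Spor.Fi24.Gen.d,true),(Cfsg.Spor.Fi24.Gen.c,true),(Cfsg.Spor.Fi24.Gen.b,true),(Cfsg.Spor.Fi24.Gen.a,true),(Cfsg.Spor.Fi24.Gen.k,true),(Cfsg.Spor.Fi24.Gen.l,true),(Cfsg.Spor.Fi24.Gen.d,true),(Cfsg.Spor.Fi24.Gen.e,true),(Cfsg.Spor.Fi24.Gen.f,true),(Cfsg.Spor.Fi24.Gen.g,true),(Cfsg.Spor.Fi24.Gen.j,true),(Cfsg.Spor.Fi24.Gen.d,true),(Cfsg.Spor.Fi24.Gen.h,true),(Cfsg.Spor.Fi24.Gen.i,true),(Cfsg.Spor.Fi24.Gen.d,true),(Cfsg.Spor.Fi24.Gen.c,true),(Cfsg.Spor.Fi24.Gen.b,true),(Cfsg.Spor.Fi24.Gen.a,true),(Cfsg.Spor.Fi24.Gen.k,true),(Cfsg.Spor.Fi24.Gen.l,true),(Cfsg.Spor.Fi24.Gen.d,true),(Cfsg.Spor.Fi24.Gen.e,true),(Cfsg.Spor.Fi24.Gen.f,true),(Cfsg.Spor.Fi24.Gen.g,true),(Cfsg.Spor.Fi24.Gen.j,true),(Cfsg.Spor.Fi24.Gen.d,true),(Cfsg.Spor.Fi24.Gen.h,tru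e),(Cfsg.Spor.Fi24.Gen.i,true),(Cfsg.Spor.Fi24.Gen.d,true),(Cfsg.Spor.Fi24.Gen.c,true),(Cfsg.Spor.Fi24.Gen.b,true),(Cfsg.Spor.Fi24.Gen.a,true),(Cfsg.Spor.Fi24.Gen.k,true),(Cfsg.Spor.Fi24.Gen.l,true),(Cfsg.Spor.Fi24.Gen.d,true),(Cfsg.Spor.Fi24.Gen.e,true),(Cfsg.Spor.Fi24.Gen.f,true),(Cfsg.Spor.Fi24.Gen.g,true),(Cfsg.Spor.Fi24.Gen.j,true),(Cfsg.Spor.Fi24.Gen.d,true),(Cfsg.Spor.Fi24.Gen.h,true),(Cfsg.Spor.Fi24.Gen.i,true),(Cfsg.Spor.Fi24.Gen.d,true),(Cfsg.Spor.Fi24.Gen.c,true),(Cfsg.Spor.Fi24.Gen.b,true),(Cfsg.Spor.Fi24.Gen.a,true),(Cfsg.Spor.Fi24.Gen.k,true),(Cfsg.Spor.Fi24.Gen.l,true),(Cfsg.Spor.Fi24.Gen.d,true),(Cfsg.Spor.Fi24.Gen.e,true),(Cfsg.Spor.Fi24.Gen.f,true),(Cfsg.Spor.Fi24.Gen.g,true),(Cfsg.Spor.Fi24.Gen.j,true),(Cfsg.Spor.Fi24.Gen.d,true)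,(Cfsg.Spor.Fi24.Gen.h,true),(Cfsg.Spor.Fi24.Gen.i,true),(Cfsg.Spor.Fi24.Gen.d,true),(Cfsg.Spor.Fi24.Gen.c,true),(Cfsg.Spor.Fi24.Gen.b,true),(Cfsg.Spor.Fi24.Gen.a,true),(Cfsg.Spor.Fi24.Gen.k,true),(Cfsg.Spor.Fi24.Gen.l,true),(Cfsg.Spor.Fi24.Gen.d,true),(Cfsg.Spor.Fi24.Gen.e,true),(Cfsg.Spor.Fi24.Gen.f,true),(Cfsg.Spor.Fi24.Gen.g,true),(Cfsg.Spor.Fi24.Gen.j,true),(Cfsg.Spor.Fi24.Gen.d,true),(Cfsg.Spor.Fi24.Gen.h,true),(Cfsg.Spor.Fi24.Gen.i,true),(Cfsg.Spor.Fi24.Gen.d,true),(Cfsg.Spor.Fi24.Gen.c,true),(Cfsg.Spor.Fi24.Gen.b,true),(Cfsg.Spor.Fi24.Gen.a,true),(Cfsg.Spor.Fi24.Gen.k,true),(Cfsg.Spor.Fi24.Gen.l,true),(Cfsg.Spor.Fi24.Gen.d,true),(Cfsg.Spor.Fi24.Gen.e,true),(Cfsg.Spor.Fi24.Gen.f,true),(Cfsg.Spor.Fi24.Gen.g,true),(Cfsg.Spor.Fi24.Gen.j,true),(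Cfsg.Spor.Fi24.Gen.d,true),(Cfsg.Spor.Fi24.Gen.h,true),(Cfsg.Spor.Fi24.Gen.i,true),(Cfsg.Spor.Fi24.Gen.d,true),(Cfsg.Spor.Fi24.Gen.c,true),(Cfsg.Spor.Fi24.Gen.b,true),(Cfsg.Spor.Fi24.Gen.a,true),(Cfsg.Spor.Fi24.Gen.k,true),(Cfsg.Spor.Fi24.Gen.l,true),(Cfsg.Spor.Fi24.Gen.d,true),(Cfsg.Spor.Fi24.Gen.e,true),(Cfsg.Spor.Fi24.Gen.f,true),(Cfsg.Spor.Fi24.Gen.g,true),(Cfsg.Spor.Fi24.Gen.j,true),(Cfsg.Spor.Fi24.Gen.d,true),(Cfsg.Spor.Fi24.Gen.h,true),(Cfsg.Spor.Fi24.Gen.i,true),(Cfsg.Spor.Fi24.Gen.d,true),(Cfsg.Spor.Fi24.Gen.c,true),(Cfsg.Spor.Fi24.Gen.b,true),(Cfsg.Spor.Fi24.Gen.a,true),(Cfsg.Spor.Fi24.Gen.k,true),(Cfsg.Spor.Fi24.Gen.l,true),(Cfsg.Spor.Fi24.Gen.d,true),(Cfsg.Spor.Fi24.Gen.e,true),(Cfsg.Spor.Fi24.Gen.f,true),(Cfsg.Spor.Fi24.Gen.g,true),(Cf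sg.Spor.Fi24.Gen.j,true),(Cfsg.Spor.Fi24.Gen.d,true),(Cfsg.Spor.Fi24.Gen.h,true),(Cfsg.Spor.Fi24.Gen.i,true),(Cfsg.Spor.Fi24.Gen.d,true),(Cfsg.Spor.Fi24.Gen.c,true),(Cfsg.Spor.Fi24.Gen.b,true),(Cfsg.Spor.Fi24.Gen.a,true),(Cfsg.Spor.Fi24.Gen.k,true),(Cfsg.Spor.Fi24.Gen.l,true),(Cfsg.Spor.Fi24.Gen.d,true),(Cfsg.Spor.Fi24.Gen.e,true),(Cfsg.Spor.Fi24.Gen.f,true),(Cfsg.Spor.Fi24.Gen.g,true),(Cfsg.Spor.Fi24.Gen.j,true),(Cfsg.Spor.Fi24.Gen.d,true),(Cfsg.Spor.Fi24.Gen.h,true),(Cfsg.Spor.Fi24.Gen.i,true),(Cfsg.Spor.Fi24.Gen.d,true),(Cfsg.Spor.Fi24.Gen.c,true),(Cfsg.Spor.Fi24.Gen.b,true),(Cfsg.Spor.Fi24.Gen.a,true),(Cfsg.Spor.Fi24.Gen.k,true),(Cfsg.Spor.Fi24.Gen.l,true),(Cfsg.Spor.Fi24.Gen.d,true),(Cfsg.Spor.Fi24.Gen.e,true),(Cfsg.Spor.Fi24.Gen.f,true),(Cfsg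.Spor.Fi24.Gen.g,true),(Cfsg.Spor.Fi24.Gen.j,true),(Cfsg.Spor.Fi24.Gen.d,true),(Cfsg.Spor.Fi24.Gen.h,true),(Cfsg.Spor.Fi24.Gen.i,true),(Cfsg.Spor.Fi24.Gen.d,true),(Cfsg.Spor.Fi24.Gen.c,true),(Cfsg.Spor.Fi24.Gen.b,true),(Cfsg.Spor.Fi24.Gen.a,true),(Cfsg.Spor.Fi24.Gen.k,true),(Cfsg.Spor.Fi24.Gen.l,true),(Cfsg.Spor.Fi24.Gen.d,true),(Cfsg.Spor.Fi24.Gen.e,true),(Cfsg.Spor.Fi24.Gen.f,true),(Cfsg.Spor.Fi24.Gen.g,true),(Cfsg.Spor.Fi24.Gen.j,true),(Cfsg.Spor.Fi24.Gen.d,true),(Cfsg.Spor.Fi24.Gen.h,true),(Cfsg.Spor.Fi24.Gen.i,true),(Cfsg.Spor.Fi24.Gen.d,true),(Cfsg.Spor.Fi24.Gen.c,true),(Cfsg.Spor.Fi24.Gen.b,true),(Cfsg.Spor.Fi24.Gen.a,true),(Cfsg.Spor.Fi24.Gen.k,true),(Cfsg.Spor.Fi24.Gen.l,true),(Cfsg.Spor.Fi24.Gen.d,true),(Cfsg.Spor.Fi24.Gen.e,true),(Cfsg.S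por.Fi24.Gen.f,true),(Cfsg.Spor.Fi24.Gen.g,true),(Cfsg.Spor.Fi24.Gen.j,true),(Cfsg.Spor.Fi24.Gen.d,true),(Cfsg.Spor.Fi24.Gen.h,true),(Cfsg.Spor.Fi24.Gen.i,true),(Cfsg.Spor.Fi24.Gen.d,true),(Cfsg.Spor.Fi24.Gen.c,true),(Cfsg.Spor.Fi24.Gen.b,true),(Cfsg.Spor.Fi24.Gen.a,true),(Cfsg.Spor.Fi24.Gen.k,true),(Cfsg.Spor.Fi24.Gen.l,true),(Cfsg.Spor.Fi24.Gen.d,true),(Cfsg.Spor.Fi24.Gen.e,true),(Cfsg.Spor.Fi24.Gen.f,true),(Cfsg.Spor.Fi24.Gen.g,true),(Cfsg.Spor.Fi24.Gen.j,true),(Cfsg.Spor.Fi24.Gen.d,true),(Cfsg.Spor.Fi24.Gen.h,true),(Cfsg.Spor.Fi24.Gen.i,true),(Cfsg.Spor.Fi24.Gen.d,true),(Cfsg.Spor.Fi24.Gen.c,true),(Cfsg.Spor.Fi24.Gen.b,true),(Cfsg.Spor.Fi24.Gen.a,true),(Cfsg.Spor.Fi24.Gen.k,true),(Cfsg.Spor.Fi24.Gen.l,true),(Cfsg.Spor.Fi24.Gen.d,true),(Cfsg.Spo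r.Fi24.Gen.e,true),(Cfsg.Spor.Fi24.Gen.f,true),(Cfsg.Spor.Fi24.Gen.g,true),(Cfsg.Spor.Fi24.Gen.j,true),(Cfsg.Spor.Fi24.Gen.d,true),(Cfsg.Spor.Fi24.Gen.h,true),(Cfsg.Spor.Fi24.Gen.i,true),(Cfsg.Spor.Fi24.Gen.d,true),(Cfsg.Spor.Fi24.Gen.c,true),(Cfsg.Spor.Fi24.Gen.b,true),(Cfsg.Spor.Fi24.Gen.a,true),(Cfsg.Spor.Fi24.Gen.k,true),(Cfsg.Spor.Fi24.Gen.l,true),(Cfsg.Spor.Fi24.Gen.d,true),(Cfsg.Spor.Fi24.Gen.e,true),(Cfsg.Spor.Fi24.Gen.f,true),(Cfsg.Spor.Fi24.Gen.g,true),(Cfsg.Spor.Fi24.Gen.j,true),(Cfsg.Spor.Fi24.Gen.d,true),(Cfsg.Spor.Fi24.Gen.h,true),(Cfsg.Spor.Fi24.Gen.i,true),(Cfsg.Spor.Fi24.Gen.d,true),(Cfsg.Spor.Fi24.Gen.c,true),(Cfsg.Spor.Fi24.Gen.b,true),(Cfsg.Spor.Fi24.Gen.a,true),(Cfsg.Spor.Fi24.Gen.k,true),(Cfsg.Spor.Fi24.Gen.l,true),(Cfsg.Spor.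Fi24.Gen.d,true),(Cfsg.Spor.Fi24.Gen.e,true),(Cfsg.Spor.Fi24.Gen.f,true),(Cfsg.Spor.Fi24.Gen.g,true),(Cfsg.Spor.Fi24.Gen.j,true),(Cfsg.Spor.Fi24.Gen.d,true),(Cfsg.Spor.Fi24.Gen.h,true),(Cfsg.Spor.Fi24.Gen.i,true),(Cfsg.Spor.Fi24.Gen.d,true),(Cfsg.Spor.Fi24.Gen.c,true),(Cfsg.Spor.Fi24.Gen.b,true),(Cfsg.Spor.Fi24.Gen.a,true),(Cfsg.Spor.Fi24.Gen.k,true),(Cfsg.Spor.Fi24.Gen.l,true),(Cfsg.Spor.Fi24.Gen.d,true),(Cfsg.Spor.Fi24.Gen.e,true),(Cfsg.Spor.Fi24.Gen.f,true),(Cfsg.Spor.Fi24.Gen.g,true),(Cfsg.Spor.Fi24.Gen.j,true),(Cfsg.Spor.Fi24.Gen.d,true),(Cfsg.Spor.Fi24.Gen.h,true),(Cfsg.Spor.Fi24.Gen.i,true)]]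

set_option maxRecDepth 100000 in
theorem extra_eq : Cfsg.Spor.Fi24.extra = extraW.map FreeGroup.mk := rfl

/-- The words of the relators, in the order of application. -/
def rels : List (List Nat) :=
  [[0,0],
   [1,0,1,0,1,0],
   [2,0,2,0],
   [3,0,3,0],
   [4,0,4,0],
   [5,0,5,0],
   [6,0,6,0],
   [7,0,7,0],
   [8,0,8,0],
   [9,0,9,0],
   [10,0,10,0],
   [11,0,11,0],
   [1,1],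
   [2,1,2,1,2,1],
   [3,1,3,1],
   [4,1,4,1],
   [5,1,5,1],
   [6,1,6,1],
   [7,1,7,1],
   [8,1,8,1],
   [9,1,9,1],
   [10,1,10,1],
   [11,1,11,1],
   [2,2],
   [3,2,3,2,3,2],
   [4,2,4,2],
   [5,2,5,2],
   [6,2,6,2],
   [7,2,7,2],
   [8,2,8,2],
   [9,2,9,2],
   [10,2,10,2],
   [11,2,11,2],
   [3,3],
   [4,3,4,3,4,3],
   [5,3,5,3],
   [6,3,6,3],
   [7,3,7,3],
   [8,3,8,3],
   [9,3,9,3],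
   [10,3,10,3],
   [11,3,11,3],
   [4,4],
   [5,4,5,4,5,4],
   [6,4,6,4],
   [7,4,7,4],
   [8,4,8,4],
   [9,4,9,4],
   [10,4,10,4],
   [11,4,11,4],
   [5,5],
   [6,5,6,5,6,5],
   [7,5,7,5],
   [8,5,8,5],
   [9,5,9,5],
   [10,5,10,5,10,5],
   [11,5,11,5],
   [6,6],
   [7,6,7,6,7,6],
   [8,6,8,6],
   [9,6,9,6],
   [10,6,10,6],
   [11,6,11,6],
   [7,7],
   [8,7,8,7,8,7],
   [9,7,9,7],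
   [10,7,10,7],
   [11,7,11,7],
   [8,8],
   [9,8,9,8,9,8],
   [10,8,10,8],
   [11,8,11,8],
   [9,9],
   [10,9,10,9],
   [11,9,11,9],
   [10,10],
   [11,10,11,10,11,10],
   [11,11],
   [2,3,4,5,6,7,10,2,3,4,5,6,7,10,2,3,4,5,6,7,10,2,3,4,5,6,7,10,2,3,4,5,6,7,10,2,3,4,5,6,7,10,2,3,4,5,6,7,10,2,3,4,5,6,7,10,2,3,4,5,6,7,10,0],
   [11,10,5,9,8,7,6,5,0,1,2,3,4,5,11,10,5,9,8,7,6,5,0,1,2,3,4,5,11,10,5,9,8,7,6,5,0,1,2,3,4,5,11,10,5,9,8,7,6,5,0,1,2,3,4,5,11,10,5,9,8,7,6,5,0,1,2,3,4,5,11,10,5,9,8,7,6,5,0,1,2,3,4,5,11,10,5,9,8,7,6,5,0,1,2,3,4,5,11,10,5,9,8,7,6,5,0,1,2,3,4,5,11,10,5,9,8,7,6,5,0,1,2,3,4,5,11,10,5,9,8,7,6,5,0,1,2,3,4,5,11,10,5,9,8,7,6,5,0,1,2,3,4,5,11,10,5,9,8,7,6,5,0,1,2,3,4,5,11,10,5,9,8,7,6,5,0,1,2,3,4,5,11,10,5,9,8,7,6,5,0,1,2,3,4,5,11,10,5,9,8,7,6,5,0,1,2,3,4,5,11,10,5,9,8,7,6,5,0,1,2,3,4,5,11,10,5,9,8,7,6,5,0,1,2,3,4,5]]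

theorem hcover : chkCover K Cfsg.Spor.Fi24.edges extraW rels = true := by decide +kernel

theorem hsound : chkSound K Cfsg.Spor.Fi24.edges extraW rels = true := by decide +kernel

theorem hR : ∀ r ∈ Rel, ∃ L, r = FreeGroup.mk L ∧ ∃ j, rotN (K.word L) j ∈ rels :=
  hR_of_chk (K := K) (edges := Cfsg.Spor.Fi24.edges) (rels := rels) extra_eq hcover

theorem hrels : ∀ l ∈ rels, ∃ L, FreeGroup.mk L ∈ Rel ∧ l = K.word L :=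
  hrels_of_chk (K := K) (edges := Cfsg.Spor.Fi24.edges) (rels := rels) extra_eq hsound

theorem valid : K.Valid (R := Rel) where
  col_lt := by intro x; cases x <;> decide
  gen_col := by intro x; cases x <;> rfl
  sgn_col := by intro x; cases x <;> rfl
  inv_lt := by decide
  col_gen := by decide
  inv_true := by decide
  inv_false := by decide
  invol := by
    intro c hc hi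
    have hc' : c < 12 := hc
    interval_cases c
    · exact ⟨rfl, node_invol (edges := Cfsg.Spor.Fi24.edges) (by decide)⟩
    · exact ⟨rfl, node_invol (edges := Cfsg.Spor.Fi24.edges) (by decide)⟩
    · exact ⟨rfl, node_invol (edges := Cfsg.Spor.Fi24.edges) (by decide)⟩
    · exact ⟨rfl, node_invol (edges := Cfsg.Spor.Fi24.edges) (by decide)⟩
    · exact ⟨rfl, node_invol (edges := Cfsg.Spor.Fi24.edges) (by decide)⟩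
    · exact ⟨rfl, node_invol (edges := Cfsg.Spor.Fi24.edges) (by decide)⟩
    · exact ⟨rfl, node_invol (edges := Cfsg.Spor.Fi24.edges) (by decide)⟩
    · exact ⟨rfl, node_invol (edges := Cfsg.Spor.Fi24.edges) (by decide)⟩
    · exact ⟨rfl, node_invol (edges := Cfsg.Spor.Fi24.edges) (by decide)⟩
    · exact ⟨rfl, node_invol (edges := Cfsg.Spor.Fi24.edges) (by decide)⟩
    · exact ⟨rfl, node_invol (edges := Cfsg.Spor.Fi24.edges) (by decide)⟩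
    · exact ⟨rfl, node_invol (edges := Cfsg.Spor.Fi24.edges) (by decide)⟩

end Cfsg.Agent.Lib.TC.G.Fi24
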