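import Cfsg.Agent.Lib.TC.Main
import Cfsg.Prelude.Def_Spor_Fi23

/-! Columns and relators of the presentation of Fi23 for coset enumeration. -/

namespace Cfsg.Agent.Lib.TC.G.Fi23

open Cfsg.Spor Cfsg.Agent.Lib.TC.Pres Cfsg.Agent.Lib.TC.Main Cfsg.Agent.Lib.TC.Enc

/-- The column of a generator. -/
def colF : Cfsg.Spor.Fi23.Gen → Nat
  | .a => 0
  | .b => 1
  | .c => 2
  | .d => 3
  | .e => 4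
  | .f => 5
  | .g => 6
  | .j => 7
  | .h => 8
  | .i => 9

/-- The generator of a column. -/
def genF (c : Nat) : Cfsg.Spor.Fi23.Gen :=
  [Cfsg.Spor.Fi23.Gen.a,Cfsg.Spor.Fi23.Gen.b,Cfsg.Spor.Fi23.Gen.c,Cfsg.Spor.Fi23.Gen.d,Cfsg.Spor.Fi23.Gen.e,Cfsg.Spor.Fi23.Gen.f,Cfsg.Spor.Fi23.Gen.g,Cfsg.Spor.Fi23.Gen.j,Cfsg.Spor.Fi23.Gen.h,Cfsg.Spor.Fi23.Gen.i].getD c Cfsg.Spor.Fi23.Gen.a

/-- The sign of a column. -/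
def sgnF (c : Nat) : Bool :=
  [true,true,true,true,true,true,true,true,true,true].getD c true

/-- The inverse column. -/
def invF (c : Nat) : Nat :=
  [0,1,2,3,4,5,6,7,8,9].getD c 0

/-- The columns. -/
def K : Cols Cfsg.Spor.Fi23.Gen := ⟨10, colF, genF, sgnF, invF⟩

/-- The relators. -/
abbrev Rel : Set (FreeGroup Cfsg.Spor.Fi23.Gen) :=
  coxRelators Cfsg.Spor.Fi23.edges ∪ {r | r ∈ Cfsg.Spor.Fi23.extra}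

/-- The words of the further relators. -/
def extraW : List (List (Cfsg.Spor.Fi23.Gen × Bool)) :=
  [[(Cfsg.Spor.Fi23.Gen.d,true),(Cfsg.Spor.Fi23.Gen.c,true),(Cfsg.Spor.Fi23.Gen.b,true),(Cfsg.Spor.Fi23.Gen.d,true),(Cfsg.Spor.Fi23.Gen.e,true),(Cfsg.Spor.Fi23.Gen.f,true),(Cfsg.Spor.Fi23.Gen.d,true),(Cfsg.Spor.Fi23.Gen.h,true),(Cfsg.Spor.Fi23.Gen.i,true),(Cfsg.Spor.Fi23.Gen.d,true),(Cfsg.Spor.Fi23.Gen.c,true),(Cfsg.Spor.Fi23.Gen.b,true),(Cfsg.Spor.Fi23.Gen.d,true),(Cfsg.Spor.Fi23.Gen.e,true),(Cfsg.Spor.Fi23.Gen.f,true),(Cfsg.Spor.Fi23.Gen.d,true),(Cfsg.Spor.Fi23.Gen.h,true),(Cfsg.Spor.Fi23.Gen.i,true),(Cfsg.Spor.Fi23.Gen.d,true),(Cfsg.Spor.Fi23.Gen.c,true),(Cfsg.Spor.Fi23.Gen.b,true),(Cfsg.Spor.Fi23.Gen.d,true),(Cfsg.Spor.Fi23.Gen.e,true),(Cfsg.Spor.Fi23.Gen.f,true),(C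fsg.Spor.Fi23.Gen.d,true),(Cfsg.Spor.Fi23.Gen.h,true),(Cfsg.Spor.Fi23.Gen.i,true),(Cfsg.Spor.Fi23.Gen.d,true),(Cfsg.Spor.Fi23.Gen.c,true),(Cfsg.Spor.Fi23.Gen.b,true),(Cfsg.Spor.Fi23.Gen.d,true),(Cfsg.Spor.Fi23.Gen.e,true),(Cfsg.Spor.Fi23.Gen.f,true),(Cfsg.Spor.Fi23.Gen.d,true),(Cfsg.Spor.Fi23.Gen.h,true),(Cfsg.Spor.Fi23.Gen.i,true),(Cfsg.Spor.Fi23.Gen.d,true),(Cfsg.Spor.Fi23.Gen.c,true),(Cfsg.Spor.Fi23.Gen.b,true),(Cfsg.Spor.Fi23.Gen.d,true),(Cfsg.Spor.Fi23.Gen.e,true),(Cfsg.Spor.Fi23.Gen.f,true),(Cfsg.Spor.Fi23.Gen.d,true),(Cfsg.Spor.Fi23.Gen.h,true),(Cfsg.Spor.Fi23.Gen.i,true),(Cfsg.Spor.Fi23.Gen.d,true),(Cfsg.Spor.Fi23.Gen.c,true),(Cfsg.Spor.Fi23.Gen.b,true),(Cfsg.Spor.Fi23.Gen.d,true),(Cfsg.Spor.Fi23.Gen.e,true),(Cfsg.Spor.Fi23.Gen.f,true),(Cfsg.Spor.Fi23.Gen.d,tr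ue),(Cfsg.Spor.Fi23.Gen.h,true),(Cfsg.Spor.Fi23.Gen.i,true),(Cfsg.Spor.Fi23.Gen.d,true),(Cfsg.Spor.Fi23.Gen.c,true),(Cfsg.Spor.Fi23.Gen.b,true),(Cfsg.Spor.Fi23.Gen.d,true),(Cfsg.Spor.Fi23.Gen.e,true),(Cfsg.Spor.Fi23.Gen.f,true),(Cfsg.Spor.Fi23.Gen.d,true),(Cfsg.Spor.Fi23.Gen.h,true),(Cfsg.Spor.Fi23.Gen.i,true),(Cfsg.Spor.Fi23.Gen.d,true),(Cfsg.Spor.Fi23.Gen.c,true),(Cfsg.Spor.Fi23.Gen.b,true),(Cfsg.Spor.Fi23.Gen.d,true),(Cfsg.Spor.Fi23.Gen.e,true),(Cfsg.Spor.Fi23.Gen.f,true),(Cfsg.Spor.Fi23.Gen.d,true),(Cfsg.Spor.Fi23.Gen.h,true),(Cfsg.Spor.Fi23.Gen.i,true),(Cfsg.Spor.Fi23.Gen.d,true),(Cfsg.Spor.Fi23.Gen.c,true),(Cfsg.Spor.Fi23.Gen.b,true),(Cfsg.Spor.Fi23.Gen.d,true),(Cfsg.Spor.Fi23.Gen.e,true),(Cfsg.Spor.Fi23.Gen.f,true),(Cfsg.Spor.Fi23.Gen.d,true),(Cfsg.Spor.Fi23.Gen.h,true),(Cfsg.Spor.Fi23.Gen.i,true),(Cfsg.Spor.Fi23.Gen.d,true),(Cfsg.Spor.Fi23.Gen.c,true),(Cfsg.Spor.Fi23.Gen.b,true),(Cfsg.Spor.Fi23.Gen.d,true),(Cfsg.Spor.Fi23.Gen.e,true),(Cfsg.Spor.Fi23.Gen.f,true),(Cfsg.Spor.Fi23.Gen.d,true),(Cfsg.Spor.Fi23.Gen.h,true),(Cfsg.Spor.Fi23.Gen.i,true)],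
   [(Cfsg.Spor.Fi23.Gen.a,true),(Cfsg.Spor.Fi23.Gen.b,true),(Cfsg.Spor.Fi23.Gen.c,true),(Cfsg.Spor.Fi23.Gen.d,true),(Cfsg.Spor.Fi23.Gen.e,true),(Cfsg.Spor.Fi23.Gen.f,true),(Cfsg.Spor.Fi23.Gen.h,true),(Cfsg.Spor.Fi23.Gen.a,true),(Cfsg.Spor.Fi23.Gen.b,true),(Cfsg.Spor.Fi23.Gen.c,true),(Cfsg.Spor.Fi23.Gen.d,true),(Cfsg.Spor.Fi23.Gen.e,true),(Cfsg.Spor.Fi23.Gen.f,true),(Cfsg.Spor.Fi23.Gen.h,true),(Cfsg.Spor.Fi23.Gen.a,true),(Cfsg.Spor.Fi23.Gen.b,true),(Cfsg.Spor.Fi23.Gen.c,true),(Cfsg.Spor.Fi23.Gen.d,true),(Cfsg.Spor.Fi23.Gen.e,true),(Cfsg.Spor.Fi23.Gen.f,true),(Cfsg.Spor.Fi23.Gen.h,true),(Cfsg.Spor.Fi23.Gen.a,true),(Cfsg.Spor.Fi23.Gen.b,true),(Cfsg.Spor.Fi23.Gen.c,true),(Cfsg.Spor.Fi23.Gen.d,true),(Cfsg.Spor.Fi23.Gen.e,true),(Cfsg.Spor.Fi23.Gen.f,true),(Cfsg.Spor.Fi23.G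en.h,true),(Cfsg.Spor.Fi23.Gen.a,true),(Cfsg.Spor.Fi23.Gen.b,true),(Cfsg.Spor.Fi23.Gen.c,true),(Cfsg.Spor.Fi23.Gen.d,true),(Cfsg.Spor.Fi23.Gen.e,true),(Cfsg.Spor.Fi23.Gen.f,true),(Cfsg.Spor.Fi23.Gen.h,true),(Cfsg.Spor.Fi23.Gen.a,true),(Cfsg.Spor.Fi23.Gen.b,true),(Cfsg.Spor.Fi23.Gen.c,true),(Cfsg.Spor.Fi23.Gen.d,true),(Cfsg.Spor.Fi23.Gen.e,true),(Cfsg.Spor.Fi23.Gen.f,true),(Cfsg.Spor.Fi23.Gen.h,true),(Cfsg.Spor.Fi23.Gen.a,true),(Cfsg.Spor.Fi23.Gen.b,true),(Cfsg.Spor.Fi23.Gen.c,true),(Cfsg.Spor.Fi23.Gen.d,true),(Cfsg.Spor.Fi23.Gen.e,true),(Cfsg.Spor.Fi23.Gen.f,true),(Cfsg.Spor.Fi23.Gen.h,true),(Cfsg.Spor.Fi23.Gen.a,true),(Cfsg.Spor.Fi23.Gen.b,true),(Cfsg.Spor.Fi23.Gen.c,true),(Cfsg.Spor.Fi23.Gen.d,true),(Cfsg.Spor.Fi23.Gen.e,true),(Cfsg.Spor.Fi23.Gen.f,true),(Cfsg.Spor.Fi23.Gen.h,true),(Cfsg.Spor.Fi23.Gen.a,true),(Cfsg.Spor.Fi23.Gen.b,true),(Cfsg.Spor.Fi23.Gen.c,true),(Cfsg.Spor.Fi23.Gen.d,true),(Cfsg.Spor.Fi23.Gen.e,true),(Cfsg.Spor.Fi23.Gen.f,true),(Cfsg.Spor.Fi23.Gen.h,true)]]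

theorem extra_eq : Cfsg.Spor.Fi23.extra = extraW.map FreeGroup.mk := rfl

/-- The words of the relators, in the order of application. -/
def rels : List (List Nat) :=
  [[0,0],
   [1,0,1,0,1,0],
   [2,0,2,0],
   [3,0,3,0],
   [4,0,4,0],
   [5,0,5,0],
   [6,0,6,0],
   [7,0,7,0],
   [8,0,8,0],
   [9,0,9,0],
   [1,1],
   [2,1,2,1,2,1],
   [3,1,3,1],
   [4,1,4,1],
   [5,1,5,1],
   [6,1,6,1],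
   [7,1,7,1],
   [8,1,8,1],
   [9,1,9,1],
   [2,2],
   [3,2,3,2,3,2],
   [4,2,4,2],
   [5,2,5,2],
   [6,2,6,2],
   [7,2,7,2],
   [8,2,8,2],
   [9,2,9,2],
   [3,3],
   [4,3,4,3,4,3],
   [5,3,5,3],
   [6,3,6,3],
   [7,3,7,3],
   [8,3,8,3,8,3],
   [9,3,9,3],
   [4,4],
   [5,4,5,4,5,4],
   [6,4,6,4],
   [7,4,7,4],
   [8,4,8,4],
   [9,4,9,4],
   [5,5],
   [6,5,6,5,6,5],
   [7,5,7,5],
   [8,5,8,5],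
   [9,5,9,5],
   [6,6],
   [7,6,7,6,7,6],
   [8,6,8,6],
   [9,6,9,6],
   [7,7],
   [8,7,8,7],
   [9,7,9,7],
   [8,8],
   [9,8,9,8,9,8],
   [9,9],
   [9,8,3,5,4,3,1,2,3,9,8,3,5,4,3,1,2,3,9,8,3,5,4,3,1,2,3,9,8,3,5,4,3,1,2,3,9,8,3,5,4,3,1,2,3,9,8,3,5,4,3,1,2,3,9,8,3,5,4,3,1,2,3,9,8,3,5,4,3,1,2,3,9,8,3,5,4,3,1,2,3,9,8,3,5,4,3,1,2,3],
   [8,5,4,3,2,1,0,8,5,4,3,2,1,0,8,5,4,3,2,1,0,8,5,4,3,2,1,0,8,5,4,3,2,1,0,8,5,4,3,2,1,0,8,5,4,3,2,1,0,8,5,4,3,2,1,0,8,5,4,3,2,1,0]]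

theorem hcover : chkCover K Cfsg.Spor.Fi23.edges extraW rels = true := by decide +kernel

theorem hsound : chkSound K Cfsg.Spor.Fi23.edges extraW rels = true := by decide +kernel

theorem hR : ∀ r ∈ Rel, ∃ L, r = FreeGroup.mk L ∧ ∃ j, rotN (K.word L) j ∈ rels :=
  hR_of_chk (K := K) (edges := Cfsg.Spor.Fi23.edges) (rels := rels) extra_eq hcover

theorem hrels : ∀ l ∈ rels, ∃ L, FreeGroup.mk L ∈ Rel ∧ l = K.word L :=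
  hrels_of_chk (K := K) (edges := Cfsg.Spor.Fi23.edges) (rels := rels) extra_eq hsound

theorem valid : K.Valid (R := Rel) where
  col_lt := by intro x; cases x <;> decide
  gen_col := by intro x; cases x <;> rfl
  sgn_col := by intro x; cases x <;> rfl
  inv_lt := by decide
  col_gen := by decide
  inv_true := by decide
  inv_false := by decide
  invol := by
    intro c hc hi
    have hc' : c < 10 := hc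
    interval_cases c
    · exact ⟨rfl, node_invol (edges := Cfsg.Spor.Fi23.edges) (by decide)⟩
    · exact ⟨rfl, node_invol (edges := Cfsg.Spor.Fi23.edges) (by decide)⟩
    · exact ⟨rfl, node_invol (edges := Cfsg.Spor.Fi23.edges) (by decide)⟩
    · exact ⟨rfl, node_invol (edges := Cfsg.Spor.Fi23.edges) (by decide)⟩
    · exact ⟨rfl, node_invol (edges := Cfsg.Spor.Fi23.edges) (by decide)⟩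
    · exact ⟨rfl, node_invol (edges := Cfsg.Spor.Fi23.edges) (by decide)⟩
    · exact ⟨rfl, node_invol (edges := Cfsg.Spor.Fi23.edges) (by decide)⟩
    · exact ⟨rfl, node_invol (edges := Cfsg.Spor.Fi23.edges) (by decide)⟩
    · exact ⟨rfl, node_invol (edges := Cfsg.Spor.Fi23.edges) (by decide)⟩
    · exact ⟨rfl, node_invol (edges := Cfsg.Spor.Fi23.edges) (by decide)⟩

end Cfsg.Agent.Lib.TC.G.Fi23
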