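import Cfsg.Agent.Lib.TC.Main
import Cfsg.Prelude.Def_Spor_HN

/-! Columns and relators of the presentation of HN for coset enumeration. -/

namespace Cfsg.Agent.Lib.TC.G.HN

open Cfsg.Spor Cfsg.Agent.Lib.TC.Pres Cfsg.Agent.Lib.TC.Main Cfsg.Agent.Lib.TC.Enc

/-- The column of a generator. -/
def colF : Cfsg.Spor.HN.Gen → Nat
  | .x => 0
  | .y => 2
  | .z => 4
  | .t => 5

/-- The generator of a column. -/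
def genF (c : Nat) : Cfsg.Spor.HN.Gen :=
  [Cfsg.Spor.HN.Gen.x,Cfsg.Spor.HN.Gen.x,Cfsg.Spor.HN.Gen.y,Cfsg.Spor.HN.Gen.y,Cfsg.Spor.HN.Gen.z,Cfsg.Spor.HN.Gen.t,Cfsg.Spor.HN.Gen.t].getD c Cfsg.Spor.HN.Gen.x

/-- The sign of a column. -/
def sgnF (c : Nat) : Bool :=
  [true,false,true,false,true,true,false].getD c true

/-- The inverse column. -/
def invF (c : Nat) : Nat :=
  [1,0,3,2,4,6,5].getD c 0

/-- The columns. -/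
def K : Cols Cfsg.Spor.HN.Gen := ⟨7, colF, genF, sgnF, invF⟩

/-- The relators. -/
abbrev Rel : Set (FreeGroup Cfsg.Spor.HN.Gen) :=
  coxRelators Cfsg.Spor.HN.edges ∪ {r | r ∈ Cfsg.Spor.HN.extra}

/-- The words of the further relators. -/
def extraW : List (List (Cfsg.Spor.HN.Gen × Bool)) :=
  [[(Cfsg.Spor.HN.Gen.y,true),(Cfsg.Spor.HN.Gen.y,true),(Cfsg.Spor.HN.Gen.y,true),(Cfsg.Spor.HN.Gen.y,true),(Cfsg.Spor.HN.Gen.y,true),(Cfsg.Spor.HN.Gen.y,true)],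
   [(Cfsg.Spor.HN.Gen.x,true),(Cfsg.Spor.HN.Gen.x,true),(Cfsg.Spor.HN.Gen.y,true),(Cfsg.Spor.HN.Gen.x,true),(Cfsg.Spor.HN.Gen.x,true),(Cfsg.Spor.HN.Gen.y,false)],
   [(Cfsg.Spor.HN.Gen.x,false),(Cfsg.Spor.HN.Gen.y,false),(Cfsg.Spor.HN.Gen.x,true),(Cfsg.Spor.HN.Gen.y,true),(Cfsg.Spor.HN.Gen.x,false),(Cfsg.Spor.HN.Gen.y,false),(Cfsg.Spor.HN.Gen.x,true),(Cfsg.Spor.HN.Gen.y,true),(Cfsg.Spor.HN.Gen.x,false),(Cfsg.Spor.HN.Gen.y,false),(Cfsg.Spor.HN.Gen.x,true),(Cfsg.Spor.HN.Gen.y,true)],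
   [(Cfsg.Spor.HN.Gen.x,false),(Cfsg.Spor.HN.Gen.y,true),(Cfsg.Spor.HN.Gen.y,true),(Cfsg.Spor.HN.Gen.x,true),(Cfsg.Spor.HN.Gen.y,true),(Cfsg.Spor.HN.Gen.y,true),(Cfsg.Spor.HN.Gen.y,true),(Cfsg.Spor.HN.Gen.x,false),(Cfsg.Spor.HN.Gen.y,true),(Cfsg.Spor.HN.Gen.y,true),(Cfsg.Spor.HN.Gen.x,true),(Cfsg.Spor.HN.Gen.y,true),(Cfsg.Spor.HN.Gen.y,true),(Cfsg.Spor.HN.Gen.y,true),(Cfsg.Spor.HN.Gen.x,false),(Cfsg.Spor.HN.Gen.y,true),(Cfsg.Spor.HN.Gen.y,true),(Cfsg.Spor.HN.Gen.x,true),(Cfsg.Spor.HN.Gen.y,true),(Cfsg.Spor.HN.Gen.y,true),(Cfsg.Spor.HN.Gen.y,true)],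
   [(Cfsg.Spor.HN.Gen.x,true),(Cfsg.Spor.HN.Gen.y,true),(Cfsg.Spor.HN.Gen.x,true),(Cfsg.Spor.HN.Gen.y,true),(Cfsg.Spor.HN.Gen.x,true),(Cfsg.Spor.HN.Gen.y,true),(Cfsg.Spor.HN.Gen.x,true),(Cfsg.Spor.HN.Gen.y,true),(Cfsg.Spor.HN.Gen.x,true),(Cfsg.Spor.HN.Gen.y,true),(Cfsg.Spor.HN.Gen.x,true),(Cfsg.Spor.HN.Gen.y,true),(Cfsg.Spor.HN.Gen.x,true),(Cfsg.Spor.HN.Gen.y,true),(Cfsg.Spor.HN.Gen.x,true),(Cfsg.Spor.HN.Gen.y,true)],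
   [(Cfsg.Spor.HN.Gen.x,true),(Cfsg.Spor.HN.Gen.y,true),(Cfsg.Spor.HN.Gen.x,true),(Cfsg.Spor.HN.Gen.y,true),(Cfsg.Spor.HN.Gen.y,true),(Cfsg.Spor.HN.Gen.y,true),(Cfsg.Spor.HN.Gen.x,true),(Cfsg.Spor.HN.Gen.y,true),(Cfsg.Spor.HN.Gen.x,true),(Cfsg.Spor.HN.Gen.y,true),(Cfsg.Spor.HN.Gen.y,true),(Cfsg.Spor.HN.Gen.y,true),(Cfsg.Spor.HN.Gen.x,true),(Cfsg.Spor.HN.Gen.y,true),(Cfsg.Spor.HN.Gen.x,true),(Cfsg.Spor.HN.Gen.y,true),(Cfsg.Spor.HN.Gen.y,true),(Cfsg.Spor.HN.Gen.y,true),(Cfsg.Spor.HN.Gen.x,true),(Cfsg.Spor.HN.Gen.y,true),(Cfsg.Spor.HN.Gen.x,true),(Cfsg.Spor.HN.Gen.y,true),(Cfsg.Spor.HN.Gen.y,true),(Cfsg.Spor.HN.Gen.y,true)],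
   [(Cfsg.Spor.HN.Gen.z,true),(Cfsg.Spor.HN.Gen.z,true)],
   [(Cfsg.Spor.HN.Gen.z,true),(Cfsg.Spor.HN.Gen.x,true),(Cfsg.Spor.HN.Gen.z,true),(Cfsg.Spor.HN.Gen.x,true)],
   [(Cfsg.Spor.HN.Gen.z,false),(Cfsg.Spor.HN.Gen.y,true),(Cfsg.Spor.HN.Gen.x,false),(Cfsg.Spor.HN.Gen.y,false),(Cfsg.Spor.HN.Gen.y,false),(Cfsg.Spor.HN.Gen.x,false),(Cfsg.Spor.HN.Gen.y,false),(Cfsg.Spor.HN.Gen.x,false),(Cfsg.Spor.HN.Gen.y,false),(Cfsg.Spor.HN.Gen.z,true),(Cfsg.Spor.HN.Gen.y,true),(Cfsg.Spor.HN.Gen.x,true),(Cfsg.Spor.HN.Gen.y,true),(Cfsg.Spor.HN.Gen.x,true),(Cfsg.Spor.HN.Gen.y,true),(Cfsg.Spor.HN.Gen.y,true),(Cfsg.Spor.HN.Gen.x,true),(Cfsg.Spor.HN.Gen.y,false),(Cfsg.Spor.HN.Gen.x,false),(Cfsg.Spor.HN.Gen.x,false)],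
   [(Cfsg.Spor.HN.Gen.z,true),(Cfsg.Spor.HN.Gen.y,false),(Cfsg.Spor.HN.Gen.x,false),(Cfsg.Spor.HN.Gen.y,false),(Cfsg.Spor.HN.Gen.x,false),(Cfsg.Spor.HN.Gen.y,false),(Cfsg.Spor.HN.Gen.y,false),(Cfsg.Spor.HN.Gen.y,false),(Cfsg.Spor.HN.Gen.z,true),(Cfsg.Spor.HN.Gen.y,true),(Cfsg.Spor.HN.Gen.y,true),(Cfsg.Spor.HN.Gen.y,true),(Cfsg.Spor.HN.Gen.x,true),(Cfsg.Spor.HN.Gen.y,true),(Cfsg.Spor.HN.Gen.x,true),(Cfsg.Spor.HN.Gen.y,true),(Cfsg.Spor.HN.Gen.x,true),(Cfsg.Spor.HN.Gen.y,false),(Cfsg.Spor.HN.Gen.x,false),(Cfsg.Spor.HN.Gen.y,false),(Cfsg.Spor.HN.Gen.x,false),(Cfsg.Spor.HN.Gen.y,false),(Cfsg.Spor.HN.Gen.y,false),(Cfsg.Spor.HN.Gen.y,false),(Cfsg.Spor.HN.Gen.z,true),(Cfsg.Spor.HN.Gen.y,true),(Cfsg.Spor.HN.Gen.y,true),(Cfsg.Spor.HN.Gen.y,true),(Cfsg.Spor.HN.Gen.x,true),(Cfsg.Spor.HN.Gen.y,true),(Cf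sg.Spor.HN.Gen.x,true),(Cfsg.Spor.HN.Gen.y,true),(Cfsg.Spor.HN.Gen.x,true),(Cfsg.Spor.HN.Gen.y,false),(Cfsg.Spor.HN.Gen.x,false),(Cfsg.Spor.HN.Gen.y,false),(Cfsg.Spor.HN.Gen.x,false),(Cfsg.Spor.HN.Gen.y,false),(Cfsg.Spor.HN.Gen.y,false),(Cfsg.Spor.HN.Gen.y,false),(Cfsg.Spor.HN.Gen.z,true),(Cfsg.Spor.HN.Gen.y,true),(Cfsg.Spor.HN.Gen.y,true),(Cfsg.Spor.HN.Gen.y,true),(Cfsg.Spor.HN.Gen.x,true),(Cfsg.Spor.HN.Gen.y,true),(Cfsg.Spor.HN.Gen.x,true),(Cfsg.Spor.HN.Gen.y,true),(Cfsg.Spor.HN.Gen.x,true)],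
   [(Cfsg.Spor.HN.Gen.t,true),(Cfsg.Spor.HN.Gen.t,true),(Cfsg.Spor.HN.Gen.t,true),(Cfsg.Spor.HN.Gen.t,true),(Cfsg.Spor.HN.Gen.t,true)],
   [(Cfsg.Spor.HN.Gen.x,false),(Cfsg.Spor.HN.Gen.t,true),(Cfsg.Spor.HN.Gen.x,true),(Cfsg.Spor.HN.Gen.t,true),(Cfsg.Spor.HN.Gen.t,true)],
   [(Cfsg.Spor.HN.Gen.t,false),(Cfsg.Spor.HN.Gen.y,false),(Cfsg.Spor.HN.Gen.t,true),(Cfsg.Spor.HN.Gen.y,true)],
   [(Cfsg.Spor.HN.Gen.z,true),(Cfsg.Spor.HN.Gen.t,true),(Cfsg.Spor.HN.Gen.z,true),(Cfsg.Spor.HN.Gen.t,true),(Cfsg.Spor.HN.Gen.z,true),(Cfsg.Spor.HN.Gen.t,true)]]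

theorem extra_eq : Cfsg.Spor.HN.extra = extraW.map FreeGroup.mk := rfl

/-- The words of the relators, in the order of application. -/
def rels : List (List Nat) :=
  [[2,2,2,2,2,2],
   [3,0,0,2,0,0],
   [2,0,3,1,2,0,3,1,2,0,3,1],
   [2,2,2,0,2,2,1,2,2,2,0,2,2,1,2,2,2,0,2,2,1],
   [2,0,2,0,2,0,2,0,2,0,2,0,2,0,2,0],
   [2,2,2,0,2,0,2,2,2,0,2,0,2,2,2,0,2,0,2,2,2,0,2,0],
   [4,4],
   [0,4,0,4],
   [1,1,3,0,2,2,0,2,0,2,4,3,1,3,1,3,3,1,2,4],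
   [0,2,0,2,0,2,2,2,4,3,3,3,1,3,1,3,0,2,0,2,0,2,2,2,4,3,3,3,1,3,1,3,0,2,0,2,0,2,2,2,4,3,3,3,1,3,1,3,4],
   [5,5,5,5,5],
   [5,5,0,5,1],
   [2,5,3,6],
   [5,4,5,4,5,4]]

theorem hcover : chkCover K Cfsg.Spor.HN.edges extraW rels = true := by decide +kernel

theorem hsound : chkSound K Cfsg.Spor.HN.edges extraW rels = true := by decide +kernel

theorem hR : ∀ r ∈ Rel, ∃ L, r = FreeGroup.mk L ∧ ∃ j, rotN (K.word L) j ∈ rels :=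
  hR_of_chk (K := K) (edges := Cfsg.Spor.HN.edges) (rels := rels) extra_eq hcover

theorem hrels : ∀ l ∈ rels, ∃ L, FreeGroup.mk L ∈ Rel ∧ l = K.word L :=
  hrels_of_chk (K := K) (edges := Cfsg.Spor.HN.edges) (rels := rels) extra_eq hsound

theorem valid : K.Valid (R := Rel) where
  col_lt := by intro x; cases x <;> decide
  gen_col := by intro x; cases x <;> rfl
  sgn_col := by intro x; cases x <;> rfl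
  inv_lt := by decide
  col_gen := by decide
  inv_true := by decide
  inv_false := by decide
  invol := by
    intro c hc hi
    have hc' : c < 7 := hc
    interval_cases c
    · exact absurd hi (by decide)
    · exact absurd hi (by decide)
    · exact absurd hi (by decide)
    · exact absurd hi (by decide)
    · refine ⟨rfl, ?_⟩
      have h : (FreeGroup.of Cfsg.Spor.HN.Gen.z * FreeGroup.of Cfsg.Spor.HN.Gen.z) ∈ Rel := by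
        refine Or.inr ?_
        have h1 : Cfsg.Spor.HN.z ^ 2 ∈ Cfsg.Spor.HN.extra := by
          unfold Cfsg.Spor.HN.extra
          apply List.mem_cons_of_mem
          apply List.mem_cons_of_mem
          apply List.mem_cons_of_mem
          apply List.mem_cons_of_mem
          apply List.mem_cons_of_mem
          apply List.mem_cons_of_mem
          exact List.mem_cons_self
        rw [pow_two] at h1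
        exact h1
      exact PresentedGroup.one_of_mem h
    · exact absurd hi (by decide)
    · exact absurd hi (by decide)

end Cfsg.Agent.Lib.TC.G.HN
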