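import Cfsg.Agent.Lib.TC.Main
import Cfsg.Prelude.Def_SporCoxeter

/-! Columns and relators of a presentation of the alternating group of degree 12. -/

namespace Cfsg.Agent.Lib.TC.G.PA12

open Cfsg.Spor Cfsg.Agent.Lib.TC.Pres Cfsg.Agent.Lib.TC.Main Cfsg.Agent.Lib.TC.Enc

/-- The column of a generator. -/
def colF (x : Fin 10) : Nat := 2 * x.1

/-- The generator of a column. -/
def genF (c : Nat) : Fin 10 := ⟨(c / 2) % 10, Nat.mod_lt _ (by decide)⟩

/-- The sign of a column. -/
def sgnF (c : Nat) : Bool := c % 2 == 0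

/-- The inverse column. -/
def invF (c : Nat) : Nat := if c % 2 = 0 then c + 1 else c - 1

/-- The columns. -/
def K : Cols (Fin 10) := ⟨20, colF, genF, sgnF, invF⟩

/-- No graph. -/
def edges : List (Fin 10 × Nat × Fin 10) := []

/-- The words of the relators. -/
def extraW : List (List (Fin 10 × Bool)) :=
  [[((0 : Fin 10),true),((0 : Fin 10),true),((0 : Fin 10),true)],
   [((1 : Fin 10),true),((1 : Fin 10),true),((1 : Fin 10),true)],
   [((2 : Fin 10),true),((2 : Fin 10),true),((2 : Fin 10),true)],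
   [((3 : Fin 10),true),((3 : Fin 10),true),((3 : Fin 10),true)],
   [((4 : Fin 10),true),((4 : Fin 10),true),((4 : Fin 10),true)],
   [((5 : Fin 10),true),((5 : Fin 10),true),((5 : Fin 10),true)],
   [((6 : Fin 10),true),((6 : Fin 10),true),((6 : Fin 10),true)],
   [((7 : Fin 10),true),((7 : Fin 10),true),((7 : Fin 10),true)],
   [((8 : Fin 10),true),((8 : Fin 10),true),((8 : Fin 10),true)],
   [((9 : Fin 10),true),((9 : Fin 10),true),((9 : Fin 10),true)],
   [((0 : Fin 10),true),((1 : Fin 10),true),((0 : Fin 10),true),((1 : Fin 10),true)],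
   [((0 : Fin 10),true),((2 : Fin 10),true),((0 : Fin 10),true),((2 : Fin 10),true)],
   [((0 : Fin 10),true),((3 : Fin 10),true),((0 : Fin 10),true),((3 : Fin 10),true)],
   [((0 : Fin 10),true),((4 : Fin 10),true),((0 : Fin 10),true),((4 : Fin 10),true)],
   [((0 : Fin 10),true),((5 : Fin 10),true),((0 : Fin 10),true),((5 : Fin 10),true)],
   [((0 : Fin 10),true),((6 : Fin 10),true),((0 : Fin 10),true),((6 : Fin 10),true)],
   [((0 : Fin 10),true),((7 : Fin 10),true),((0 : Fin 10),true),((7 : Fin 10),true)],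
   [((0 : Fin 10),true),((8 : Fin 10),true),((0 : Fin 10),true),((8 : Fin 10),true)],
   [((0 : Fin 10),true),((9 : Fin 10),true),((0 : Fin 10),true),((9 : Fin 10),true)],
   [((1 : Fin 10),true),((2 : Fin 10),true),((1 : Fin 10),true),((2 : Fin 10),true)],
   [((1 : Fin 10),true),((3 : Fin 10),true),((1 : Fin 10),true),((3 : Fin 10),true)],
   [((1 : Fin 10),true),((4 : Fin 10),true),((1 : Fin 10),true),((4 : Fin 10),true)],
   [((1 : Fin 10),true),((5 : Fin 10),true),((1 : Fin 10),true),((5 : Fin 10),true)],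
   [((1 : Fin 10),true),((6 : Fin 10),true),((1 : Fin 10),true),((6 : Fin 10),true)],
   [((1 : Fin 10),true),((7 : Fin 10),true),((1 : Fin 10),true),((7 : Fin 10),true)],
   [((1 : Fin 10),true),((8 : Fin 10),true),((1 : Fin 10),true),((8 : Fin 10),true)],
   [((1 : Fin 10),true),((9 : Fin 10),true),((1 : Fin 10),true),((9 : Fin 10),true)],
   [((2 : Fin 10),true),((3 : Fin 10),true),((2 : Fin 10),true),((3 : Fin 10),true)],
   [((2 : Fin 10),true),((4 : Fin 10),true),((2 : Fin 10),true),((4 : Fin 10),true)],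
   [((2 : Fin 10),true),((5 : Fin 10),true),((2 : Fin 10),true),((5 : Fin 10),true)],
   [((2 : Fin 10),true),((6 : Fin 10),true),((2 : Fin 10),true),((6 : Fin 10),true)],
   [((2 : Fin 10),true),((7 : Fin 10),true),((2 : Fin 10),true),((7 : Fin 10),true)],
   [((2 : Fin 10),true),((8 : Fin 10),true),((2 : Fin 10),true),((8 : Fin 10),true)],
   [((2 : Fin 10),true),((9 : Fin 10),true),((2 : Fin 10),true),((9 : Fin 10),true)],
   [((3 : Fin 10),true),((4 : Fin 10),true),((3 : Fin 10),true),((4 : Fin 10),true)],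
   [((3 : Fin 10),true),((5 : Fin 10),true),((3 : Fin 10),true),((5 : Fin 10),true)],
   [((3 : Fin 10),true),((6 : Fin 10),true),((3 : Fin 10),true),((6 : Fin 10),true)],
   [((3 : Fin 10),true),((7 : Fin 10),true),((3 : Fin 10),true),((7 : Fin 10),true)],
   [((3 : Fin 10),true),((8 : Fin 10),true),((3 : Fin 10),true),((8 : Fin 10),true)],
   [((3 : Fin 10),true),((9 : Fin 10),true),((3 : Fin 10),true),((9 : Fin 10),true)],
   [((4 : Fin 10),true),((5 : Fin 10),true),((4 : Fin 10),true),((5 : Fin 10),true)],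
   [((4 : Fin 10),true),((6 : Fin 10),true),((4 : Fin 10),true),((6 : Fin 10),true)],
   [((4 : Fin 10),true),((7 : Fin 10),true),((4 : Fin 10),true),((7 : Fin 10),true)],
   [((4 : Fin 10),true),((8 : Fin 10),true),((4 : Fin 10),true),((8 : Fin 10),true)],
   [((4 : Fin 10),true),((9 : Fin 10),true),((4 : Fin 10),true),((9 : Fin 10),true)],
   [((5 : Fin 10),true),((6 : Fin 10),true),((5 : Fin 10),true),((6 : Fin 10),true)],
   [((5 : Fin 10),true),((7 : Fin 10),true),((5 : Fin 10),true),((7 : Fin 10),true)],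
   [((5 : Fin 10),true),((8 : Fin 10),true),((5 : Fin 10),true),((8 : Fin 10),true)],
   [((5 : Fin 10),true),((9 : Fin 10),true),((5 : Fin 10),true),((9 : Fin 10),true)],
   [((6 : Fin 10),true),((7 : Fin 10),true),((6 : Fin 10),true),((7 : Fin 10),true)],
   [((6 : Fin 10),true),((8 : Fin 10),true),((6 : Fin 10),true),((8 : Fin 10),true)],
   [((6 : Fin 10),true),((9 : Fin 10),true),((6 : Fin 10),true),((9 : Fin 10),true)],
   [((7 : Fin 10),true),((8 : Fin 10),true),((7 : Fin 10),true),((8 : Fin 10),true)],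
   [((7 : Fin 10),true),((9 : Fin 10),true),((7 : Fin 10),true),((9 : Fin 10),true)],
   [((8 : Fin 10),true),((9 : Fin 10),true),((8 : Fin 10),true),((9 : Fin 10),true)]]

/-- The further relators. -/
def extra : List (FreeGroup (Fin 10)) := extraW.map FreeGroup.mk

/-- The relators. -/
abbrev Rel : Set (FreeGroup (Fin 10)) := coxRelators edges ∪ {r | r ∈ extra}

/-- The words of the relators, in the order of application. -/
def rels : List (List Nat) :=
  [[0,0,0],
   [2,2,2],
   [4,4,4],
   [6,6,6],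
   [8,8,8],
   [10,10,10],
   [12,12,12],
   [14,14,14],
   [16,16,16],
   [18,18,18],
   [2,0,2,0],
   [4,0,4,0],
   [6,0,6,0],
   [8,0,8,0],
   [10,0,10,0],
   [12,0,12,0],
   [14,0,14,0],
   [16,0,16,0],
   [18,0,18,0],
   [4,2,4,2],
   [6,2,6,2],
   [8,2,8,2],
   [10,2,10,2],
   [12,2,12,2],
   [14,2,14,2],
   [16,2,16,2],
   [18,2,18,2],
   [6,4,6,4],
   [8,4,8,4],
   [10,4,10,4],
   [12,4,12,4],
   [14,4,14,4],
   [16,4,16,4],
   [18,4,18,4],
   [8,6,8,6],
   [10,6,10,6],
   [12,6,12,6],
   [14,6,14,6],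
   [16,6,16,6],
   [18,6,18,6],
   [10,8,10,8],
   [12,8,12,8],
   [14,8,14,8],
   [16,8,16,8],
   [18,8,18,8],
   [12,10,12,10],
   [14,10,14,10],
   [16,10,16,10],
   [18,10,18,10],
   [14,12,14,12],
   [16,12,16,12],
   [18,12,18,12],
   [16,14,16,14],
   [18,14,18,14],
   [18,16,18,16]]

theorem hcover : chkCover K edges extraW rels = true := by decide +kernel

theorem hsound : chkSound K edges extraW rels = true := by decide +kernel

theorem hR : ∀ r ∈ Rel, ∃ L, r = FreeGroup.mk L ∧ ∃ j, rotN (K.word L) j ∈ rels :=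
  hR_of_chk (K := K) (edges := edges) (rels := rels) rfl hcover

theorem hrels : ∀ l ∈ rels, ∃ L, FreeGroup.mk L ∈ Rel ∧ l = K.word L :=
  hrels_of_chk (K := K) (edges := edges) (rels := rels) rfl hsound

theorem valid : K.Valid (R := Rel) where
  col_lt := by
    intro x
    show 2 * x.1 < 20
    omega
  gen_col := by
    intro x
    fin_cases x <;> rfl
  sgn_col := by
    intro x
    fin_cases x <;> rfl
  inv_lt := by decide
  col_gen := by decide
  inv_true := by decide
  inv_false := by decide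
  invol := by
    intro c hc hi
    exfalso
    have hc' : c < 20 := hc
    interval_cases c <;> exact absurd hi (by decide)

end Cfsg.Agent.Lib.TC.G.PA12
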